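import Cfsg.Agent.H822.Ore.Fi23Asm_m3
import Cfsg.Agent.H643.PwCnt
import Cfsg.Agent.H65.Ore.Split_m3
import Cfsg.Agent.H692.Ore.Fi23C
import Cfsg.Agent.H935.Fi23.Deg_m3
import Cfsg.Agent.Lib.PermNetFast
import Cfsg.Agent.Prune
set_option linter.all false
open scoped Cfsg.Agent.FastGrp

-- part: H293/PwF/Three
section
/-!
# `Fi23`: the elements of order 3 are products of two elements of order 5 (helper293)

Half row (I) of S2465 for `Fi23`, elements of order 3: helper838's `classes` gives four representatives (up to inversion),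
each a product of two words of order 5.  `D1`, `D2` : the same for helper29's two elements of order 9 without fixed points.
-/

set_option autoImplicit false
set_option maxRecDepth 100000
set_option linter.constructorNameAsVariable false

namespace Cfsg.Agent.H293.PwF

open Subgroup Cfsg Cfsg.Agent.LThreeFi23 Cfsg.Agent.H838.Fi23 Cfsg.Agent.H838.Three Cfsg.Agent.H838.Mono
open Cfsg.Agent.Fischer.Fi23Hom Cfsg.Agent.H78.Pw Cfsg.Agent.H29.Ore.Fi
open Cfsg.Spor (Fi23)

/-- the `n`-th power of a word -/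
def wpow (l : List Lt) : ℕ → List Lt
  | 0 => []
  | n + 1 => l ++ wpow l n

theorem elw_wpow (l : List Lt) (n : ℕ) : elw (wpow l n) = elw l ^ n := by
  induction n with
  | zero => rw [pow_zero]; exact elw_nil
  | succ n ih => rw [show wpow l (n + 1) = l ++ wpow l n from rfl, elw_append, ih, pow_succ']

/-- the reversed word times a word -/
theorem pr_of_words {a r : List Lt} {n m : ℕ} (hn : Nat.Coprime n 6) (hm : Nat.Coprime m 6)
    (h1 : eqM (wpow a n) [] = true) (h2 : eqM (wpow (a.reverse ++ r) m) [] = true) : Pr 6 (elw r) := by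
  have e1 := elw_eq h1
  have e2 := elw_eq h2
  rw [elw_wpow, elw_nil] at e1 e2
  refine ⟨elw a, elw (a.reverse ++ r), ?_, Nat.Coprime.of_dvd_left (orderOf_dvd_of_pow_eq_one e1) hn,
    Nat.Coprime.of_dvd_left (orderOf_dvd_of_pow_eq_one e2) hm⟩
  rw [elw_append, elw_reverse, mul_inv_cancel_left]

def a4 : List Lt := [.g, .a, .z, .i, .c, .d, .e, .a, .h, .f, .z, .d]
def a5 : List Lt := [.j, .c, .d, .c, .e, .g, .f, .j, .e, .h]

theorem p4 : eqM (wpow a4 7) [] = true := by decide +kernel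
set_option Elab.async false in
theorem q4 : eqM (wpow (a4.reverse ++ wD1) 7) [] = true := by (rewrite [show @Cfsg.Agent.H838.Fi23.eqM = delta% @Cfsg.Agent.H838.Fi23.eqM from by delta Cfsg.Agent.H838.Fi23.eqM; rfl, Cfsg.Agent.Lib.PermNetFast.appWord_fast]; decide +kernel)
theorem p5 : eqM (wpow a5 5) [] = true := by decide +kernel
set_option Elab.async false in
theorem q5 : eqM (wpow (a5.reverse ++ wD2) 7) [] = true := by (rewrite [show @Cfsg.Agent.H838.Fi23.eqM = delta% @Cfsg.Agent.H838.Fi23.eqM from by delta Cfsg.Agent.H838.Fi23.eqM; rfl, Cfsg.Agent.Lib.PermNetFast.appWord_fast]; decide +kernel)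

theorem pr_D1 : Pr 6 (elw wD1) := pr_of_words (n := 7) (m := 7) (by decide) (by decide) p4 q4
theorem pr_D2 : Pr 6 (elw wD2) := pr_of_words (n := 5) (m := 7) (by decide) (by decide) p5 q5

theorem Pr.of_CI {x y : Fi23} (h : CI x y) (hy : Pr 6 y) : Pr 6 x := by
  obtain ⟨g, h | h⟩ := h
  · exact Pr.of_conj (x := g) (by rw [h]; exact hy)
  · exact Pr.of_conj (x := g) (by rw [h]; exact hy.inv)

end Cfsg.Agent.H293.PwF
end

-- part: H293/PwF/Row
section
/-!
# `Fi23`: half row (I) of S2465, products of two elements of order prime to 6 (helper293)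

* `pr_of_cent` : every `g` with `|C(g)| ≤ 42900000` is a product of two elements of order 23, from the degree bounds
  `DegOn Fi23 (pNE 23) 30888`, `DegOn Fi23 (pX 23 11) 75000`;
* `odd_pr` : the elements of odd order, from `All 6` of `PΩ₇(3)` and `pr_of_cent`;
* `six_of` : the half row, from these inputs and helper822's bounds `Bd` for the involutions.
-/

set_option autoImplicit false
set_option maxRecDepth 100000
set_option linter.constructorNameAsVariable false

namespace Cfsg.Agent.H293.PwF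

open Subgroup Cfsg Cfsg.Agent.LThreeFi23 Cfsg.Agent.H838.Fi23 Cfsg.Agent.H838.Three Cfsg.Agent.H838.Mono
open Cfsg.Agent.Fischer.Fi23Hom Cfsg.Agent.H78.Pw Cfsg.Agent.H29.Ore.Fi Cfsg.Agent.Characters
open Cfsg.Agent.H511.Ore (DegOn pNE pX)
open Cfsg.Agent.H822.Ore.Fi23Row (Bd)
open Cfsg.Spor (Fi23)

/-! ### The sieve at 23 -/

theorem exists_x : ∃ x : Fi23, orderOf x = 23 ∧ Nat.card (centralizer ({x} : Set Fi23)) = 23 := by
  have := Cfsg.Agent.KFacts.FiTTh.BasInv.finite
  have hs := Cfsg.Agent.Fischer.Fi23Simple.card_Fi23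
  have : Fact (Nat.Prime 23) := ⟨by norm_num⟩
  obtain ⟨x, hx⟩ := exists_prime_orderOf_dvd_card' (G := Fi23) 23 (by rw [hs]; norm_num)
  refine ⟨x, hx, ?_⟩
  have h := (Cfsg.Agent.H961.SepFi23.data23 (R := zpowers x) (by rw [Nat.card_zpowers, hx])).1
  rwa [zpowers_eq_closure, centralizer_closure] at h

/-- **the sieve at 23** -/
theorem pr_of_cent (h1 : DegOn Fi23 (pNE 23) 30888) (h2 : DegOn Fi23 (pX 23 11) 75000) {g : Fi23}
    (hc : Nat.card (centralizer ({g} : Set Fi23)) ≤ 42900000) {n : ℕ} (hn : Nat.Coprime 23 n) : Pr n g := by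
  have := Cfsg.Agent.KFacts.FiTTh.BasInv.finite
  have : IsSimpleGroup Fi23 := Cfsg.Agent.Fischer.Fi23Simple.isFi23.1
  obtain ⟨x, hx, hC⟩ := exists_x
  obtain ⟨a, b, h⟩ := H65.Ore.prd_all (p := 23) Cfsg.Agent.H822.Ore.Fi23Row.noncomm (by norm_num)
    Cfsg.Agent.Fischer.Fi23Simple.card_Fi23 hx hC 11 2 83 (by decide +kernel) (DN := 30888) (DX := 75000)
    (fun χ hχ hd => h1 χ hχ (by
      unfold pNE
      rcases hd with hd | hd <;> rw [hd] <;> decide))
    (fun χ hχ hd => h2 χ hχ (by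
      unfold pX
      rcases hd with hd | hd <;> rw [hd] <;> decide))
    (by norm_num) (by norm_num) hx hc
  refine ⟨_, _, h, ?_, ?_⟩
  · rw [show orderOf (a * x * a⁻¹) = orderOf x from
      orderOf_injective (MulAut.conj a).toMonoidHom (MulAut.conj a).injective x, hx]
    exact hn
  · rw [show orderOf (b * x * b⁻¹) = orderOf x from
      orderOf_injective (MulAut.conj b).toMonoidHom (MulAut.conj b).injective x, hx]
    exact hn

/-! ### Elements of odd order -/

/-- the elements conjugate into `CC ≅ PΩ₇(3)` -/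
theorem pr_CC (hO : All 6 (POmega (ZMod 3) (quadFormOdd 3 (ZMod 3)))) {g : Fi23}
    (h : ∃ k : Fi23, k * g * k⁻¹ ∈ CC) : Pr 6 g := by
  obtain ⟨k, hk⟩ := h
  have hC : All 6 ↥CC := All.congr eO.symm hO
  exact Pr.of_conj (x := k) (Pr.of_mem hC hk)

/-- **3-elements** -/
theorem three_pr (hO : All 6 (POmega (ZMod 3) (quadFormOdd 3 (ZMod 3))))
    (t1 : ∀ g : Fi23, Nat.card (centralizer ({g} : Set Fi23)) ≤ 39858075 → Pr 6 g) {g : Fi23} {n : ℕ}
    (hg : g ^ 3 ^ n = 1) : Pr 6 g := by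
  have hfin : Finite Fi23 := Cfsg.Agent.H199.NSmFi23.finite
  have h3 : Fact (Nat.Prime 3) := ⟨Nat.prime_three⟩
  have h2 : Fact (Nat.Prime 2) := ⟨Nat.prime_two⟩
  by_cases h1 : g = 1
  · rw [h1]; exact Pr.one 6
  by_cases he : 2 ∣ Nat.card ↥(centralizer ({g} : Set Fi23))
  · obtain ⟨⟨z, hzg⟩, hz⟩ := exists_prime_orderOf_dvd_card' (G := ↥(centralizer ({g} : Set Fi23))) 2 he
    rw [Subgroup.orderOf_mk] at hz
    have hzz : z * z = 1 := by rw [← pow_two, ← hz, pow_orderOf_eq_one]
    have hz1 : z ≠ 1 := by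
      rintro rfl
      rw [orderOf_one] at hz
      omega
    have fixd : (∃ p < 31671, rho g p = p) → Pr 6 g := by
      rintro ⟨p, hp, hpp⟩
      exact pr_CC hO (into_CC hg hp hpp)
    rcases even_case hg hzz hz1 (mem_centralizer_singleton_iff.1 hzg).symm with h | ⟨k, hk⟩
    · exact fixd h
    · have h1 : CI g (k * g * k⁻¹) := CI.of_conj k rfl
      rcases Pw_case hk with h | h | h
      · exact fixd (CI.fix h1 h)
      · exact Pr.of_CI (h1.trans h) pr_D1
      · exact Pr.of_CI (h1.trans h) pr_D2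
  · -- the power of order 3
    obtain ⟨j, hj, hgj⟩ := (Nat.dvd_prime_pow Nat.prime_three).1 (orderOf_dvd_of_pow_eq_one hg)
    have hj0 : j ≠ 0 := by
      rintro rfl
      rw [pow_zero] at hgj
      exact h1 (orderOf_eq_one_iff.1 hgj)
    obtain ⟨m, rfl⟩ := Nat.exists_eq_succ_of_ne_zero hj0
    have hx : orderOf (g ^ 3 ^ m) = 3 := by
      rw [orderOf_pow, hgj, pow_succ, Nat.gcd_eq_right (Dvd.intro _ rfl)]
      exact Nat.mul_div_cancel_left 3 (by positivity)
    have hle := card_cent_le (x := g) (y := g ^ 3 ^ m) (fun h hh => (show Commute h g from hh).pow_right _)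
    have hco : ∀ a : ℕ, (Nat.card ↥(centralizer ({g} : Set Fi23))).Coprime (2 ^ a) := fun a =>
      (((Nat.Prime.coprime_iff_not_dvd Nat.prime_two).2 he).symm).pow_right a
    rcases Cfsg.Agent.H199.NSmFi23.card_three hx with h4 | h4
    · have h5 := (hco 18).dvd_of_dvd_mul_left (hle.trans h4)
      exact t1 g ((Nat.le_of_dvd (by norm_num) h5).trans (by norm_num))
    · have h5 := (hco 18).dvd_of_dvd_mul_left (hle.trans h4)
      exact t1 g (Nat.le_of_dvd (by norm_num) h5)

/-- **elements of odd order** -/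
theorem odd_pr (hO : All 6 (POmega (ZMod 3) (quadFormOdd 3 (ZMod 3))))
    (t1 : ∀ g : Fi23, Nat.card (centralizer ({g} : Set Fi23)) ≤ 39858075 → Pr 6 g) {g : Fi23}
    (ho : Odd (orderOf g)) : Pr 6 g := by
  have hfin : Finite Fi23 := Cfsg.Agent.H199.NSmFi23.finite
  by_cases h : ∃ r : ℕ, r.Prime ∧ 5 ≤ r ∧ r ∣ orderOf g
  · obtain ⟨r, hr, h5, hd⟩ := h
    obtain ⟨m, hm⟩ := hd
    have hm0 : m ≠ 0 := by
      rintro rfl
      rw [mul_zero] at hm
      exact (orderOf_pos g).ne' hm
    have hx : orderOf (g ^ m) = r := by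
      rw [orderOf_pow_of_dvd hm0 ⟨r, by rw [hm, mul_comm]⟩, hm]
      exact Nat.mul_div_cancel _ (Nat.pos_of_ne_zero hm0)
    have hle := card_cent_le (x := g) (y := g ^ m) (fun h hh => (show Commute h g from hh).pow_right _)
    have h1 := card_cent_prime hr h5 hx
    exact t1 g ((Nat.le_of_dvd Nat.card_pos hle).trans (h1.trans (by norm_num)))
  · have h1 : ∀ r : ℕ, r.Prime → r ∣ orderOf g → r = 3 := by
      intro r hr hd
      by_contra hne
      apply h
      refine ⟨r, hr, ?_, hd⟩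
      have h2 : r ≠ 2 := by
        rintro rfl
        exact (Nat.not_even_iff_odd.2 ho) (even_iff_two_dvd.2 hd)
      have h4 : r ≠ 4 := by
        rintro rfl
        exact absurd hr (by norm_num)
      have := hr.two_le
      omega
    have h2 : orderOf g = 3 ^ (orderOf g).primeFactorsList.length := by
      refine Nat.eq_prime_pow_of_unique_prime_dvd (orderOf_pos g).ne' ?_
      intro d hd hdd
      exact h1 d hd hdd
    refine three_pr hO t1 (n := (orderOf g).primeFactorsList.length) ?_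
    rw [← h2]
    exact pow_orderOf_eq_one g

/-! ### The half row -/

/-- **half row (I) for `Fi23` itself** -/
theorem six (hO : All 6 (POmega (ZMod 3) (quadFormOdd 3 (ZMod 3)))) (h1 : DegOn Fi23 (pNE 23) 30888)
    (h2 : DegOn Fi23 (pX 23 11) 75000) (hB : ∀ z : Fi23, z * z = 1 → z ≠ 1 → Bd z) : All 6 Fi23 := by
  have t1 : ∀ g : Fi23, Nat.card (centralizer ({g} : Set Fi23)) ≤ 42900000 → Pr 6 g := fun g hg =>
    pr_of_cent h1 h2 hg (by norm_num)
  refine Cfsg.Agent.H822.Ore.Fi23Frame.frame hB ?_ (fun g hg => t1 g (hg.trans (by norm_num))) ?_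
    (fun g hg => odd_pr hO (fun g hg => t1 g (hg.trans (by norm_num))) hg)
  · intro p hp h5 s hs
    exact (card_cent_prime hp h5 hs).trans (by norm_num)
  · intro g n hg
    obtain ⟨x, y, c, hx, hy, h⟩ := Cfsg.Agent.H822.Ore.Fi23Four.two_prd hg
    have hy' : y ^ 23 = 1 := by
      rw [hy, conj_pow, inv_pow, hx, inv_one, mul_one, mul_inv_cancel]
    exact ⟨x, y, h, Nat.Coprime.of_dvd_left (orderOf_dvd_of_pow_eq_one hx) (by norm_num),
      Nat.Coprime.of_dvd_left (orderOf_dvd_of_pow_eq_one hy') (by norm_num)⟩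

/-- **half row (I)** -/
theorem six_of (hO : All 6 (POmega (ZMod 3) (quadFormOdd 3 (ZMod 3)))) (h1 : DegOn Fi23 (pNE 23) 30888)
    (h2 : DegOn Fi23 (pX 23 11) 75000) (hB : ∀ z : Fi23, z * z = 1 → z ≠ 1 → Bd z) {S : Type*} [Group S]
    (h : Spor.IsoFi23 S) : All 6 S := by
  obtain ⟨e⟩ := h
  exact All.congr e.symm (six hO h1 h2 hB)

end Cfsg.Agent.H293.PwF
end

-- part: H293/PwF/Final
section
/-!
# `Fi23`: the half row (I) of S2465 modulo `PΩ₇(3)` (helper293)

* `bd_all` : the bounds `Bd` for all involutions (helper868: 2A, helper692: 2B, 2C);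
* `pr_cent` : every `g` with `|C(g)| ≤ 42900000` is a product of two elements of order 23 (degrees: helper935);
* `six_fi23` : `All 6` from `All 6` of `PΩ₇(3)`.
-/

set_option autoImplicit false

namespace Cfsg.Agent.H293.PwF

open Subgroup Cfsg Cfsg.Agent.H78.Pw
open Cfsg.Agent.H822.Ore.Fi23Row (Bd Bd.of_isConj)
open Cfsg.Spor (Fi23)

/-- **the bounds for all involutions** -/
theorem bd_all {z : Fi23} (hz : z * z = 1) (hz1 : z ≠ 1) : Bd z := by
  have hA : Bd Cfsg.Agent.Fischer.Fi23Z.z0 := fun s hs hc => Cfsg.Agent.H868.Ore.Fi23A.bd_z0 s hs hc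
  rcases Cfsg.Agent.KFacts.FiTTh.Has.inv z hz hz1 with h | h | h
  · exact Bd.of_isConj hA h.symm
  · intro s hs hc
    exact Cfsg.Agent.H692.Ore.Fi23B.two_b hA h.symm hs hc
  · intro s hs hc
    exact Cfsg.Agent.H692.Ore.Fi23C.two_c (by norm_num) hA h.symm hs hc

/-- **the sieve at 23** -/
theorem pr_cent {g : Fi23} (hc : Nat.card (centralizer ({g} : Set Fi23)) ≤ 42900000) {n : ℕ} (hn : Nat.Coprime 23 n) :
    Pr n g :=
  pr_of_cent Cfsg.Agent.H935.Fi23.degOn_ne Cfsg.Agent.H935.Fi23.degOn_x hc hn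

/-- **half row (I) of `Fi23`, from `PΩ₇(3)`** -/
theorem six_fi23 (hO : All 6 (POmega (ZMod 3) (quadFormOdd 3 (ZMod 3)))) {S : Type*} [Group S]
    (h : Spor.IsoFi23 S) : All 6 S :=
  six_of hO Cfsg.Agent.H935.Fi23.degOn_ne Cfsg.Agent.H935.Fi23.degOn_x (fun _ hz hz1 => bd_all hz hz1) h

end Cfsg.Agent.H293.PwF
end
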